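import Mathlib
set_option autoImplicit false
universe u
open TopologicalSpace Topology Set

namespace Groth.Agent.Helper16.IrrLocFin

variable {X U : Type*} [TopologicalSpace X] [TopologicalSpace U]

/-- Key topological lemma. -/
theorem finite_components_meeting_image (p : U → X) (hp : Continuous p) (hop : IsOpenMap p)
    (T : Set X) (O : Set U) (hO : IsOpen O)
    (hfin : (irreducibleComponents ↥(O ∩ p ⁻¹' T)).Finite) :
    {Z : ↥(irreducibleComponents ↥T) |
      ((((↑) : ↥T → X) '' (Z : Set ↥T)) ∩ p '' O).Nonempty}.Finite := by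
  set A : Set U := O ∩ p ⁻¹' T with hA
  let pA : ↥A → ↥T := fun a => ⟨p a.1, a.2.2⟩
  have hpA : Continuous pA := Continuous.subtype_mk (hp.comp continuous_subtype_val) _
  -- the open set of T
  set W : Set ↥T := Subtype.val ⁻¹' (p '' O) with hW
  have hWo : IsOpen W := (hop O hO).preimage continuous_subtype_val
  have hWsub : W ⊆ Set.range pA := by
    rintro ⟨t, ht⟩ ⟨u, hu, hut⟩
    have : u ∈ A := ⟨hu, by show p u ∈ T; rw [hut]; exact ht⟩
    exact ⟨⟨u, this⟩, Subtype.ext hut⟩
  have hrange : Set.range pA = ⋃₀ ((fun C : Set ↥A => pA '' C) '' irreducibleComponents ↥A) := by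
    rw [← Set.image_univ, ← sUnion_irreducibleComponents (X := ↥A), Set.image_sUnion]
  have hkey : ∀ Z ∈ irreducibleComponents ↥T, (Z ∩ W).Nonempty →
      ∃ C ∈ irreducibleComponents ↥A, Z = closure (pA '' C) := by
    intro Z hZ hne
    have hZirr : IsIrreducible Z := hZ.1
    have h1 : Z ⊆ closure (Z ∩ W) :=
      subset_closure_inter_of_isPreirreducible_of_isOpen hZirr.isPreirreducible hWo hne
    have h2 : Z ⊆ closure (⋃₀ ((fun C : Set ↥A => pA '' C) '' irreducibleComponents ↥A)) := by
      refine h1.trans (closure_mono ?_)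
      rw [← hrange]
      exact Set.inter_subset_right.trans hWsub
    have hfin' : ((fun C : Set ↥A => pA '' C) '' irreducibleComponents ↥A).Finite := hfin.image _
    rw [hfin'.closure_sUnion] at h2
    have hfin'' : ((fun s => closure s) ''
        ((fun C : Set ↥A => pA '' C) '' irreducibleComponents ↥A)).Finite := hfin'.image _
    obtain ⟨z, hz, hZz⟩ := (isIrreducible_iff_sUnion_isClosed.1 hZirr) hfin''.toFinset
      (by
        intro z hz
        rw [Set.Finite.mem_toFinset] at hz
        obtain ⟨_, _, rfl⟩ := hz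
        exact isClosed_closure)
      (by
        rw [Set.Finite.coe_toFinset]
        intro x hx
        have := h2 hx
        rw [Set.mem_iUnion₂] at this
        obtain ⟨s, hs, hxs⟩ := this
        exact ⟨closure s, ⟨s, hs, rfl⟩, hxs⟩)
    rw [Set.Finite.mem_toFinset] at hz
    obtain ⟨_, ⟨C, hC, rfl⟩, rfl⟩ := hz
    refine ⟨C, hC, ?_⟩
    have hirr : IsIrreducible (closure (pA '' C)) :=
      (hC.1.image pA hpA.continuousOn).closure
    exact le_antisymm hZz (hZ.2 hirr hZz)
  have hsub : {Z : ↥(irreducibleComponents ↥T) |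
      ((((↑) : ↥T → X) '' (Z : Set ↥T)) ∩ p '' O).Nonempty} ⊆
      Subtype.val ⁻¹' ((fun C : Set ↥A => closure (pA '' C)) '' irreducibleComponents ↥A) := by
    rintro ⟨Z, hZ⟩ ⟨x, ⟨t, htZ, rfl⟩, hxO⟩
    obtain ⟨C, hC, hZC⟩ := hkey Z hZ ⟨t, htZ, hxO⟩
    exact ⟨C, hC, hZC.symm⟩
  exact ((hfin.image _).preimage Subtype.val_injective.injOn).subset hsub

end Groth.Agent.Helper16.IrrLocFin
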