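import Mathlib
set_option autoImplicit false
universe u
open TopologicalSpace Topology Set

namespace Groth.Agent.Helper16.JacImage

variable {P W : Type*} [TopologicalSpace P] [TopologicalSpace W]

/-- Images of closed points under open, generalizing, surjective maps with discrete fibres out of a
Jacobson space are closed. -/
theorem isClosed_singleton_image [JacobsonSpace P] (f : P → W) (hf : Continuous f)
    (hop : IsOpenMap f) (hgen : GeneralizingMap f) (hsurj : Function.Surjective f)
    (hdisc : ∀ w, IsDiscrete (f ⁻¹' {w})) (p : P) (hp : IsClosed ({p} : Set P)) :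
    IsClosed ({f p} : Set W) := by
  set w := f p with hw
  obtain ⟨N, hNo, hN⟩ := (isDiscrete_iff_forall_mem_exists_isOpen.1 (hdisc w)) p rfl
  have hpN : p ∈ N := by
    have : p ∈ N ∩ f ⁻¹' {w} := by rw [hN]; rfl
    exact this.1
  -- N ∩ f⁻¹(closure{w}) = {p}
  have h1 : ∀ n ∈ N, f n ∈ closure ({w} : Set W) → n = p := by
    intro n hn hfn
    have hsp : w ⤳ f n := specializes_iff_mem_closure.2 hfn
    obtain ⟨n', hn'n, hfn'⟩ := hgen hsp
    have hn'N : n' ∈ N := hn'n.mem_open hNo hn
    have : n' ∈ N ∩ f ⁻¹' {w} := ⟨hn'N, hfn'⟩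
    rw [hN] at this
    have hn'p : n' = p := this
    rw [hn'p] at hn'n
    have : n ∈ closure ({p} : Set P) := specializes_iff_mem_closure.1 hn'n
    rwa [hp.closure_eq] at this
  have hV : IsOpen (f '' N) := hop N hNo
  have hVZ : ∀ y ∈ f '' N, y ∈ closure ({w} : Set W) → y = w := by
    rintro _ ⟨n, hn, rfl⟩ hy
    rw [h1 n hn hy]
  -- closure {w} = {w}
  have hcl : closure ({w} : Set W) = {w} := by
    apply Set.Subset.antisymm _ subset_closure
    intro w' hw'
    obtain ⟨p', rfl⟩ := hsurj w'
    have hsp : w ⤳ f p' := specializes_iff_mem_closure.2 hw'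
    obtain ⟨p'', hp''p', hfp''⟩ := hgen hsp
    have hne : (f ⁻¹' (f '' N) ∩ closure ({p''} : Set P)).Nonempty :=
      ⟨p'', by rw [Set.mem_preimage, hfp'']; exact ⟨p, hpN, rfl⟩, subset_closure rfl⟩
    obtain ⟨c, ⟨hcV, hcY⟩, hcc⟩ := nonempty_inter_closedPoints hne
      ((hV.preimage hf).isLocallyClosed.inter isClosed_closure.isLocallyClosed)
    have hsp2 : p'' ⤳ c := specializes_iff_mem_closure.2 hcY
    have hfc : f c = w := by
      apply hVZ _ hcV
      have := hsp2.map hf
      rw [hfp''] at this
      exact specializes_iff_mem_closure.1 this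
    have hpc : p'' = c := (hdisc w).eq_of_specializes hsp2 hfp'' hfc
    have hcc' : IsClosed ({p''} : Set P) := by rw [hpc]; exact hcc
    have : p' ∈ closure ({p''} : Set P) := specializes_iff_mem_closure.1 hp''p'
    rw [hcc'.closure_eq] at this
    rw [Set.mem_singleton_iff] at this ⊢
    rw [this, hfp'']
  rw [← hcl]
  exact isClosed_closure

end Groth.Agent.Helper16.JacImage
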