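import Mathlib

/-!
# Irreducible components of a closed subspace of a sober space (helper16)
-/

set_option autoImplicit false
universe u

open Topology

namespace Groth.Agent.Helper16.ClosedComp

/-- the generic points of the irreducible components of a sober space are the points without
proper generization. -/
theorem mem_genericPoints_iff {T : Type*} [TopologicalSpace T] [QuasiSober T] [T0Space T]
    (η : T) : η ∈ genericPoints T ↔ ∀ z : T, z ⤳ η → z = η := by
  constructor
  · intro h z hz
    have h1 : closure {η} ⊆ closure {z} := by
      rw [← specializes_iff_closure_subset]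
      exact hz
    have h2 : closure {z} ⊆ closure {η} :=
      h.2 (isIrreducible_singleton.closure) h1
    have h3 : η ⤳ z := specializes_iff_closure_subset.mpr h2
    exact (hz.antisymm h3).eq
  · intro h
    refine ⟨isIrreducible_singleton.closure, ?_⟩
    intro Z' hZ' hsub
    have hirr : IsIrreducible (closure Z') := hZ'.closure
    have hgen := hirr.isGenericPoint_genericPoint isClosed_closure
    have hη : η ∈ closure Z' := subset_closure (hsub (subset_closure rfl))
    have h1 : hirr.genericPoint ⤳ η := hgen.specializes hη
    have h2 := h _ h1
    rw [h2] at hgen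
    rw [hgen.def]
    exact subset_closure

variable {W : Type*} [TopologicalSpace W]

/-- dimension of the closure of a point in a closed subspace. -/
theorem dim_closure_subtype (S : Set W) (hS : IsClosed S) (η : S) :
    topologicalKrullDim ↥(closure ({η} : Set S)) =
      topologicalKrullDim ↥(closure ({(η : W)} : Set W)) := by
  have hemb : IsClosedEmbedding (Subtype.val : S → W) := hS.isClosedEmbedding_subtypeVal
  have himg : Subtype.val '' (closure ({η} : Set S)) = closure ({(η : W)} : Set W) := by
    rw [← hemb.closure_image_eq, Set.image_singleton]
  rw [← himg]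
  exact IsHomeomorph.topologicalKrullDim_eq _
    (hemb.isEmbedding.homeomorphImage (closure ({η} : Set S))).isHomeomorph

/-- **The dimensions of the irreducible components of a closed subspace of a sober space**, through
the maximal points of the subspace. -/
theorem dims_components [QuasiSober W] [T0Space W] (S : Set W) (hS : IsClosed S) :
    (fun Z : Set S => topologicalKrullDim ↥Z) '' irreducibleComponents S =
      {d | ∃ η : W, η ∈ S ∧ (∀ z : W, z ∈ S → z ⤳ η → z = η) ∧
        topologicalKrullDim ↥(closure ({η} : Set W)) = d} := by
  have hemb : IsClosedEmbedding (Subtype.val : S → W) := hS.isClosedEmbedding_subtypeVal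
  have : QuasiSober S := hemb.quasiSober
  ext d
  simp only [Set.mem_image, Set.mem_ofPred_eq]
  constructor
  · rintro ⟨Z, hZ, rfl⟩
    let g := genericPoints.ofComponent ⟨Z, hZ⟩
    have hg : IsGenericPoint g.1 Z := genericPoints.isGenericPoint_ofComponent ⟨Z, hZ⟩
    have hmin := (mem_genericPoints_iff g.1).mp g.2
    refine ⟨g.1.1, g.1.2, ?_, ?_⟩
    · intro z hzS hz
      have : (⟨z, hzS⟩ : S) ⤳ g.1 := by
        rw [← hemb.isInducing.specializes_iff]
        exact hz
      exact congrArg Subtype.val (hmin _ this)
    · rw [← dim_closure_subtype S hS g.1, hg.def]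
  · rintro ⟨η, hηS, hmin, rfl⟩
    have hgp : (⟨η, hηS⟩ : S) ∈ genericPoints S := by
      rw [mem_genericPoints_iff]
      intro z hz
      have : (z : W) ⤳ η := hemb.isInducing.specializes_iff.mpr hz
      exact Subtype.ext (hmin z.1 z.2 this)
    have hgp' : closure ({(⟨η, hηS⟩ : S)} : Set S) ∈ irreducibleComponents S := hgp
    exact ⟨_, hgp', dim_closure_subtype S hS ⟨η, hηS⟩⟩

end Groth.Agent.Helper16.ClosedComp
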