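import Mathlib

/-!
# Irreducible components versus connected components in a Noetherian space (helper16)
-/

set_option autoImplicit false
open TopologicalSpace

namespace Groth.Agent.Helper16.IrrConn

variable {T : Type*} [TopologicalSpace T]

/-- the connected component containing an irreducible component -/
noncomputable def toConn (Q : irreducibleComponents T) : ConnectedComponents T :=
  ConnectedComponents.mk Q.2.1.nonempty.some

theorem toConn_eq_of_mem (Q : irreducibleComponents T) (t : T) (ht : t ∈ Q.1) :
    toConn Q = ConnectedComponents.mk t := by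
  unfold toConn
  rw [ConnectedComponents.coe_eq_coe']
  exact Q.2.1.isPreirreducible.isPreconnected.subset_connectedComponent ht Q.2.1.nonempty.some_mem

theorem toConn_surjective : Function.Surjective (toConn (T := T)) := by
  intro c
  obtain ⟨t, rfl⟩ := ConnectedComponents.surjective_coe c
  exact ⟨⟨irreducibleComponent t, irreducibleComponent_mem_irreducibleComponents t⟩,
    toConn_eq_of_mem _ t mem_irreducibleComponent⟩

/-- every point lies in exactly one irreducible component -/
def UniqueComp (T : Type*) [TopologicalSpace T] : Prop :=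
  ∀ t : T, ∀ Q Q' : Set T, Q ∈ irreducibleComponents T → Q' ∈ irreducibleComponents T →
    t ∈ Q → t ∈ Q' → Q = Q'

theorem isOpen_of_uniqueComp [NoetherianSpace T] (h : UniqueComp T) (Q : Set T)
    (hQ : Q ∈ irreducibleComponents T) : IsOpen Q := by
  have hfin : (irreducibleComponents T).Finite := NoetherianSpace.finite_irreducibleComponents
  let 𝒮 : Set (Set T) := {C | C ∈ irreducibleComponents T ∧ C ≠ Q}
  have h𝒮fin : 𝒮.Finite := hfin.subset fun C hC => hC.1
  have hScl : IsClosed (⋃₀ 𝒮) := by
    rw [Set.sUnion_eq_biUnion]
    exact h𝒮fin.isClosed_biUnion fun C hC => isClosed_of_mem_irreducibleComponents C hC.1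
  have : Q = (⋃₀ 𝒮)ᶜ := by
    ext t
    constructor
    · rintro ht ⟨C, hC, htC⟩
      exact hC.2 (h t C Q hC.1 hQ htC ht)
    · intro ht
      by_contra hn
      apply ht
      refine ⟨irreducibleComponent t, ⟨irreducibleComponent_mem_irreducibleComponents t, ?_⟩,
        mem_irreducibleComponent⟩
      intro heq
      exact hn (heq ▸ mem_irreducibleComponent)
  rw [this]
  exact hScl.isOpen_compl

theorem toConn_injective_of_uniqueComp [NoetherianSpace T] (h : UniqueComp T) :
    Function.Injective (toConn (T := T)) := by
  intro Q Q' hQQ'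
  have hcl : IsClopen Q.1 :=
    ⟨isClosed_of_mem_irreducibleComponents Q.1 Q.2, isOpen_of_uniqueComp h Q.1 Q.2⟩
  -- the chosen point of Q' lies in the connected component of the chosen point of Q ⊆ Q
  have h1 : Q'.2.1.nonempty.some ∈ connectedComponent Q.2.1.nonempty.some := by
    have := hQQ'
    unfold toConn at this
    rw [ConnectedComponents.coe_eq_coe'] at this
    exact connectedComponent_eq this ▸ mem_connectedComponent
  have h2 : Q'.2.1.nonempty.some ∈ Q.1 :=
    hcl.connectedComponent_subset Q.2.1.nonempty.some_mem h1
  exact Subtype.ext (h _ Q.1 Q'.1 Q.2 Q'.2 h2 Q'.2.1.nonempty.some_mem)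

theorem card_eq_of_uniqueComp [NoetherianSpace T] (h : UniqueComp T) :
    Nat.card (irreducibleComponents T) = Nat.card (ConnectedComponents T) :=
  Nat.card_congr (Equiv.ofBijective _ ⟨toConn_injective_of_uniqueComp h, toConn_surjective⟩)

theorem uniqueComp_of_card_eq [NoetherianSpace T]
    (h : Nat.card (irreducibleComponents T) = Nat.card (ConnectedComponents T)) :
    UniqueComp T := by
  haveI : Finite (irreducibleComponents T) :=
    (NoetherianSpace.finite_irreducibleComponents (α := T)).to_subtype
  have hbij := Function.Surjective.bijective_of_nat_card_le (toConn_surjective (T := T)) h.le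
  intro t Q Q' hQ hQ' ht ht'
  have h1 := toConn_eq_of_mem ⟨Q, hQ⟩ t ht
  have h2 := toConn_eq_of_mem ⟨Q', hQ'⟩ t ht'
  have := hbij.1 (h1.trans h2.symm)
  exact congrArg Subtype.val this

/-- a point with an irreducible open neighbourhood lies in only one irreducible component -/
theorem eq_of_isIrreducible_nhd (W : Set T) (hWo : IsOpen W) (hW : IsIrreducible W) (t : T)
    (htW : t ∈ W) (Q : Set T) (hQ : Q ∈ irreducibleComponents T) (ht : t ∈ Q) : Q = closure W := by
  have h1 : Q ⊆ closure (Q ∩ W) :=
    subset_closure_inter_of_isPreirreducible_of_isOpen hQ.1.isPreirreducible hWo ⟨t, ht, htW⟩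
  have h2 : Q ⊆ closure W := h1.trans (closure_mono Set.inter_subset_right)
  exact hQ.eq_of_subset hW.closure h2

theorem uniqueComp_of_forall_nhd
    (h : ∀ t : T, ∃ W : Set T, IsOpen W ∧ IsIrreducible W ∧ t ∈ W) : UniqueComp T := by
  intro t Q Q' hQ hQ' ht ht'
  obtain ⟨W, hWo, hW, htW⟩ := h t
  rw [eq_of_isIrreducible_nhd W hWo hW t htW Q hQ ht,
    eq_of_isIrreducible_nhd W hWo hW t htW Q' hQ' ht']

/-- under `UniqueComp`, every point of a Noetherian space has an irreducible open neighbourhood -/
theorem exists_nhd_of_uniqueComp [NoetherianSpace T] (h : UniqueComp T) (t : T) :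
    ∃ W : Set T, IsOpen W ∧ IsIrreducible W ∧ t ∈ W :=
  ⟨irreducibleComponent t,
    isOpen_of_uniqueComp h _ (irreducibleComponent_mem_irreducibleComponents t),
    isIrreducible_irreducibleComponent, mem_irreducibleComponent⟩

end Groth.Agent.Helper16.IrrConn
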