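import Mathlib
import Groth.Agent.Lib.Helper9.TopDim

set_option autoImplicit false
set_option linter.style.haveILetI false
set_option linter.unusedSectionVars false

open TopologicalSpace Topology

namespace Groth.Agent.Helper16.Sard

open Groth.Agent.Helper9.TopDim

variable {X Y : Type*} [TopologicalSpace X] [TopologicalSpace Y]

/-- monotonicity of the dimension of subspaces. -/
theorem dim_mono {A B : Set Y} (h : A ⊆ B) : topologicalKrullDim ↥A ≤ topologicalKrullDim ↥B := by
  refine dim_le_of_range_subset (X := Y) (f := Subtype.val) (g := Subtype.val)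
    IsInducing.subtypeVal IsInducing.subtypeVal ?_
  rw [Subtype.range_coe, Subtype.range_coe]
  exact h

/-- the dimension of a union of two closed subsets. -/
theorem dim_union_le {A B : Set Y} (hA : IsClosed A) (hB : IsClosed B) (d : WithBot ℕ∞)
    (h1 : topologicalKrullDim ↥A ≤ d) (h2 : topologicalKrullDim ↥B ≤ d) :
    topologicalKrullDim ↥(A ∪ B) ≤ d := by
  let C : Bool → Set ↥(A ∪ B) := fun b => if b then Subtype.val ⁻¹' A else Subtype.val ⁻¹' B
  have hC : ∀ b, IsClosed (C b) := by
    intro b
    cases b
    · exact hB.preimage continuous_subtype_val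
    · exact hA.preimage continuous_subtype_val
  have hcov : ⋃ b, C b = Set.univ := by
    ext ⟨z, hz⟩
    simp only [Set.mem_iUnion, Set.mem_univ, iff_true]
    rcases hz with hz | hz
    · exact ⟨true, hz⟩
    · exact ⟨false, hz⟩
  rw [dim_eq_iSup_of_locallyFinite_closed_cover C hC (locallyFinite_of_finite C) hcov]
  refine iSup_le ?_
  intro b
  cases b
  · refine le_trans ?_ h2
    refine dim_le_of_range_subset (X := Y) (isInducing_val_val _) IsInducing.subtypeVal ?_
    rw [range_val_val, Subtype.range_coe]
    rintro _ ⟨z, hz, rfl⟩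
    exact hz
  · refine le_trans ?_ h1
    refine dim_le_of_range_subset (X := Y) (isInducing_val_val _) IsInducing.subtypeVal ?_
    rw [range_val_val, Subtype.range_coe]
    rintro _ ⟨z, hz, rfl⟩
    exact hz

/-- **Noetherian induction for dimension bounds of images**: to bound the dimension of the closure
of `f '' S` it suffices to bound `dim closure {f ξ}` for the points `ξ` in whose closure `S` is
dense. -/
theorem dim_closure_image_le [NoetherianSpace X] [QuasiSober X] (f : X → Y) (hf : Continuous f)
    (S : Set X) (d : WithBot ℕ∞)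
    (H : ∀ ξ : X, closure ({ξ} : Set X) ⊆ closure (S ∩ closure {ξ}) →
      topologicalKrullDim ↥(closure ({f ξ} : Set Y)) ≤ d) :
    topologicalKrullDim ↥(closure (f '' S)) ≤ d := by
  suffices hQ : ∀ Z : Closeds X, topologicalKrullDim ↥(closure (f '' (S ∩ (Z : Set X)))) ≤ d by
    have := hQ ⊤
    rw [Closeds.coe_top, Set.inter_univ] at this
    exact this
  intro Z
  induction Z using (wellFounded_lt (α := Closeds X)).induction with
  | _ Z IH =>
    by_cases hemp : (Z : Set X) = ∅
    · rw [hemp, Set.inter_empty, Set.image_empty, closure_empty]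
      have h0 : IsEmpty ↥(∅ : Set Y) := inferInstance
      haveI : IsEmpty (IrreducibleCloseds ↥(∅ : Set Y)) :=
        ⟨fun W => by
          obtain ⟨z, -⟩ := W.isIrreducible.nonempty
          exact h0.false z⟩
      unfold topologicalKrullDim
      rw [Order.krullDim_eq_bot]
      exact bot_le
    by_cases hirr : IsPreirreducible (Z : Set X)
    · have hZirr : IsIrreducible (Z : Set X) := ⟨Set.nonempty_iff_ne_empty.mpr hemp, hirr⟩
      obtain ⟨ξ, hξ⟩ := QuasiSober.sober hZirr Z.isClosed
      have hcl : closure ({ξ} : Set X) = Z := hξ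
      by_cases hdense : (Z : Set X) ⊆ closure (S ∩ (Z : Set X))
      · have h1 := H ξ (by rw [hcl]; exact hdense)
        refine le_trans (dim_mono ?_) h1
        refine closure_minimal ?_ isClosed_closure
        rintro _ ⟨x, ⟨-, hxZ⟩, rfl⟩
        have hx : x ∈ closure ({ξ} : Set X) := by rw [hcl]; exact hxZ
        have := image_closure_subset_closure_image hf (s := {ξ}) ⟨x, hx, rfl⟩
        rwa [Set.image_singleton] at this
      · let Z' : Closeds X := ⟨closure (S ∩ (Z : Set X)), isClosed_closure⟩
        have hZ'le : (Z' : Set X) ⊆ Z := closure_minimal Set.inter_subset_right Z.isClosed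
        have hlt : Z' < Z := by
          refine lt_of_le_of_ne hZ'le ?_
          intro heq
          apply hdense
          have : (Z : Set X) = closure (S ∩ (Z : Set X)) := congrArg (fun W : Closeds X => (W : Set X)) heq.symm
          rw [← this]
        have h1 := IH Z' hlt
        have h2 : S ∩ (Z' : Set X) = S ∩ (Z : Set X) := by
          apply le_antisymm
          · exact Set.inter_subset_inter_right _ hZ'le
          · intro x hx
            exact ⟨hx.1, subset_closure hx⟩
        rw [h2] at h1
        exact h1
    · rw [isPreirreducible_iff_isClosed_union_isClosed] at hirr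
      push Not at hirr
      obtain ⟨z₁, z₂, hz₁, hz₂, hcov, hn1, hn2⟩ := hirr
      let Z₁ : Closeds X := ⟨(Z : Set X) ∩ z₁, Z.isClosed.inter hz₁⟩
      let Z₂ : Closeds X := ⟨(Z : Set X) ∩ z₂, Z.isClosed.inter hz₂⟩
      have hlt1 : Z₁ < Z := by
        refine lt_of_le_of_ne Set.inter_subset_left ?_
        intro heq
        apply hn1
        have : (Z : Set X) ∩ z₁ = Z := congrArg (fun W : Closeds X => (W : Set X)) heq
        rw [← this]
        exact Set.inter_subset_right
      have hlt2 : Z₂ < Z := by
        refine lt_of_le_of_ne Set.inter_subset_left ?_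
        intro heq
        apply hn2
        have : (Z : Set X) ∩ z₂ = Z := congrArg (fun W : Closeds X => (W : Set X)) heq
        rw [← this]
        exact Set.inter_subset_right
      have h1 := IH Z₁ hlt1
      have h2 := IH Z₂ hlt2
      have h3 : S ∩ (Z : Set X) = (S ∩ (Z₁ : Set X)) ∪ (S ∩ (Z₂ : Set X)) := by
        ext x
        constructor
        · rintro ⟨hxS, hxZ⟩
          rcases hcov hxZ with h | h
          · exact Or.inl ⟨hxS, hxZ, h⟩
          · exact Or.inr ⟨hxS, hxZ, h⟩
        · rintro (⟨hxS, hxZ, -⟩ | ⟨hxS, hxZ, -⟩)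
          · exact ⟨hxS, hxZ⟩
          · exact ⟨hxS, hxZ⟩
      rw [h3, Set.image_union, closure_union]
      exact dim_union_le isClosed_closure isClosed_closure d h1 h2

end Groth.Agent.Helper16.Sard
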