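import Mathlib
import Groth.Agent.Lib.Helper16.Top.Sard2
import Groth.Agent.Lib.Helper16.Sch.FTDim3

set_option autoImplicit false
set_option linter.style.haveILetI false
set_option linter.unusedSectionVars false

open TopologicalSpace Topology

namespace Groth.Agent.Helper16.HypCover

open Groth.Agent.Helper16.Sard Groth.Agent.Helper16.FTDim

variable {T : Type*} [TopologicalSpace T]

/-- the dimension of an empty subspace. -/
theorem dim_empty : topologicalKrullDim ↥(∅ : Set T) = ⊥ := by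
  have h0 : IsEmpty ↥(∅ : Set T) := inferInstance
  haveI : IsEmpty (IrreducibleCloseds ↥(∅ : Set T)) :=
    ⟨fun W => by
      obtain ⟨z, -⟩ := W.isIrreducible.nonempty
      exact h0.false z⟩
  unfold topologicalKrullDim
  rw [Order.krullDim_eq_bot]

/-- a subspace of dimension `⊥` is empty. -/
theorem eq_empty_of_dim_eq_bot {A : Set T} (h : topologicalKrullDim ↥A = ⊥) : A = ∅ := by
  by_contra hne
  obtain ⟨a, ha⟩ := Set.nonempty_iff_ne_empty.mpr hne
  haveI : Nonempty ↥A := ⟨⟨a, ha⟩⟩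
  have := Groth.Agent.Helper9.TopDim.dim_nonneg_of_nonempty (X := ↥A)
  rw [h] at this
  exact absurd this (by decide)

/-- the dimension of a finite union of closed subsets. -/
theorem dim_sUnion_le (s : Finset (Set T)) (hs : ∀ A ∈ s, IsClosed A) (d : WithBot ℕ∞)
    (hd : ∀ A ∈ s, topologicalKrullDim ↥A ≤ d) :
    topologicalKrullDim ↥(⋃₀ (s : Set (Set T))) ≤ d := by
  classical
  induction s using Finset.induction_on with
  | empty =>
    rw [Finset.coe_empty, Set.sUnion_empty, dim_empty]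
    exact bot_le
  | insert A s hA ih =>
    rw [Finset.coe_insert, Set.sUnion_insert]
    refine dim_union_le (hs A (Finset.mem_insert_self A s)) ?_ d
      (hd A (Finset.mem_insert_self A s))
      (ih (fun B hB => hs B (Finset.mem_insert_of_mem hB))
        (fun B hB => hd B (Finset.mem_insert_of_mem hB)))
    rw [Set.sUnion_eq_biUnion]
    exact Set.Finite.isClosed_biUnion s.finite_toSet
      (fun B hB => hs B (Finset.mem_insert_of_mem hB))

variable [NoetherianSpace T] [QuasiSober T]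

/-- one step: cut by a hypersurface avoiding the generic points of the components not contained in
`Y`. -/
theorem exists_step (𝓗 : Set (Set T)) (h𝓗 : ∀ H ∈ 𝓗, IsClosed H) (Y : Set T) (hY : IsClosed Y)
    (AV : ∀ P : Finset T, (∀ p ∈ P, p ∉ Y) → ∃ H ∈ 𝓗, Y ⊆ H ∧ ∀ p ∈ P, p ∉ H)
    (X : Set T) (hX : IsClosed X) :
    ∃ H₀ ∈ 𝓗, Y ⊆ H₀ ∧ ∃ s : Finset (Set T),
      (∀ A ∈ s, IsClosed A ∧ (A = ∅ ∨ topologicalKrullDim ↥A + 1 ≤ topologicalKrullDim ↥X)) ∧
      X ∩ H₀ ⊆ Y ∪ ⋃₀ (s : Set (Set T)) := by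
  classical
  rcases isEmpty_or_nonempty T with hT | hT
  · obtain ⟨H₀, hH₀, hYH₀, -⟩ := AV ∅ (fun p hp => absurd hp (Finset.notMem_empty p))
    refine ⟨H₀, hH₀, hYH₀, ∅, fun A hA => absurd hA (Finset.notMem_empty A), ?_⟩
    intro x
    exact (hT.false x).elim
  obtain ⟨S, hSfin, hScl, hSirr, hXeq⟩ := NoetherianSpace.exists_finite_set_isClosed_irreducible hX
  have hgen : ∀ t : Set T, t ∈ S → ∃ ξ : T, closure ({ξ} : Set T) = t := by
    intro t ht
    obtain ⟨ξ, hξ⟩ := QuasiSober.sober (hSirr t ht) (hScl t ht)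
    exact ⟨ξ, hξ⟩
  choose! g hg using hgen
  let S' : Finset (Set T) := hSfin.toFinset.filter (fun t => ¬ t ⊆ Y)
  have hS'mem : ∀ t, t ∈ S' ↔ t ∈ S ∧ ¬ t ⊆ Y := by
    intro t
    simp only [S', Finset.mem_filter, Set.Finite.mem_toFinset]
  let P : Finset T := S'.image g
  have hP : ∀ p ∈ P, p ∉ Y := by
    intro p hp hpY
    obtain ⟨t, ht, rfl⟩ := Finset.mem_image.mp hp
    obtain ⟨htS, htY⟩ := (hS'mem t).mp ht
    apply htY
    have := closure_minimal (Set.singleton_subset_iff.mpr hpY) hY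
    rwa [hg t htS] at this
  obtain ⟨H₀, hH₀, hYH₀, hPH₀⟩ := AV P hP
  refine ⟨H₀, hH₀, hYH₀, S'.image (fun t => t ∩ H₀), ?_, ?_⟩
  · intro A hA
    obtain ⟨t, ht, rfl⟩ := Finset.mem_image.mp hA
    obtain ⟨htS, htY⟩ := (hS'mem t).mp ht
    refine ⟨(hScl t htS).inter (h𝓗 H₀ hH₀), ?_⟩
    by_cases hemp : t ∩ H₀ = ∅
    · exact Or.inl hemp
    · right
      have hnot : ¬ t ⊆ H₀ := by
        intro hsub
        have h1 : g t ∈ t := by
          have := subset_closure (Set.mem_singleton (g t))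
          rwa [hg t htS] at this
        exact hPH₀ (g t) (Finset.mem_image_of_mem g ht) (hsub h1)
      have h2 := dim_add_one_le_of_ssubset (hSirr t htS) (h𝓗 H₀ hH₀)
        (Set.inter_comm t H₀) (Set.nonempty_iff_ne_empty.mpr hemp) hnot
      refine h2.trans (dim_mono ?_)
      rw [hXeq]
      exact Set.subset_sUnion_of_mem htS
  · rintro x ⟨hxX, hxH⟩
    rw [hXeq] at hxX
    obtain ⟨t, htS, hxt⟩ := Set.mem_sUnion.mp hxX
    by_cases htY : t ⊆ Y
    · exact Or.inl (htY hxt)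
    · right
      refine ⟨t ∩ H₀, ?_, hxt, hxH⟩
      rw [Finset.coe_image]
      exact ⟨t, (hS'mem t).mpr ⟨htS, htY⟩, rfl⟩

theorem withBot_le_of_add_one_le (a : WithBot ℕ∞) (n : ℕ)
    (h : a + 1 ≤ ((n + 1 : ℕ) : WithBot ℕ∞)) : a ≤ (n : WithBot ℕ∞) := by
  induction a using WithBot.recBotCoe with
  | bot => exact bot_le
  | coe x =>
    have h1 : ((x + 1 : ℕ∞) : WithBot ℕ∞) ≤ (((n + 1 : ℕ) : ℕ∞) : WithBot ℕ∞) := by
      exact_mod_cast h
    have h2 : x + 1 ≤ ((n + 1 : ℕ) : ℕ∞) := WithBot.coe_le_coe.mp h1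
    have h3 : x ≤ (n : ℕ∞) := by
      induction x using ENat.recTopCoe with
      | top => simp at h2
      | coe m =>
        have : m + 1 ≤ n + 1 := by exact_mod_cast h2
        exact_mod_cast (by omega : m ≤ n)
    exact_mod_cast h3

theorem withBot_eq_bot_of_add_one_le_zero (a : WithBot ℕ∞) (h : a + 1 ≤ 0) : a = ⊥ := by
  induction a using WithBot.recBotCoe with
  | bot => rfl
  | coe x =>
    exfalso
    have h1 : ((x + 1 : ℕ∞) : WithBot ℕ∞) ≤ ((0 : ℕ∞) : WithBot ℕ∞) := by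
      exact_mod_cast h
    have h2 : x + 1 ≤ (0 : ℕ∞) := WithBot.coe_le_coe.mp h1
    simp at h2

/-- **covering by hypersurfaces**: a closed subset `X` of dimension `≤ n` is cut down into `Y` by
`n + 1` hypersurfaces containing `Y`. -/
theorem exists_hypersurfaces (𝓗 : Set (Set T)) (h𝓗 : ∀ H ∈ 𝓗, IsClosed H) (Y : Set T)
    (hY : IsClosed Y)
    (AV : ∀ P : Finset T, (∀ p ∈ P, p ∉ Y) → ∃ H ∈ 𝓗, Y ⊆ H ∧ ∀ p ∈ P, p ∉ H)
    (n : ℕ) (X : Set T) (hX : IsClosed X) (hdim : topologicalKrullDim ↥X ≤ (n : WithBot ℕ∞)) :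
    ∃ H : Fin (n + 1) → Set T, (∀ j, H j ∈ 𝓗) ∧ (∀ j, Y ⊆ H j) ∧ X ∩ ⋂ j, H j ⊆ Y := by
  induction n generalizing X with
  | zero =>
    obtain ⟨H₀, hH₀, hYH₀, s, hs, hsub⟩ := exists_step 𝓗 h𝓗 Y hY AV X hX
    refine ⟨fun _ => H₀, fun _ => hH₀, fun _ => hYH₀, ?_⟩
    rintro x ⟨hxX, hxH⟩
    have hxH₀ : x ∈ H₀ := Set.mem_iInter.mp hxH 0
    rcases hsub ⟨hxX, hxH₀⟩ with h | h
    · exact h
    · exfalso
      obtain ⟨A, hA, hxA⟩ := h
      rcases (hs A hA).2 with hemp | hd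
      · rw [hemp] at hxA
        exact hxA
      · have h1 : topologicalKrullDim ↥A + 1 ≤ 0 := hd.trans (by exact_mod_cast hdim)
        have h2 := eq_empty_of_dim_eq_bot (withBot_eq_bot_of_add_one_le_zero _ h1)
        rw [h2] at hxA
        exact hxA
  | succ n ih =>
    obtain ⟨H₀, hH₀, hYH₀, s, hs, hsub⟩ := exists_step 𝓗 h𝓗 Y hY AV X hX
    have hX₁cl : IsClosed (⋃₀ (s : Set (Set T))) := by
      rw [Set.sUnion_eq_biUnion]
      exact Set.Finite.isClosed_biUnion s.finite_toSet (fun A hA => (hs A hA).1)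
    have hX₁dim : topologicalKrullDim ↥(⋃₀ (s : Set (Set T))) ≤ (n : WithBot ℕ∞) := by
      refine dim_sUnion_le s (fun A hA => (hs A hA).1) _ ?_
      intro A hA
      rcases (hs A hA).2 with hemp | hd
      · rw [hemp, dim_empty]
        exact bot_le
      · exact withBot_le_of_add_one_le _ n (hd.trans hdim)
    obtain ⟨H', hH', hYH', hsub'⟩ := ih _ hX₁cl hX₁dim
    refine ⟨Fin.cons H₀ H', ?_, ?_, ?_⟩
    · intro j
      refine Fin.cases ?_ (fun i => ?_) j
      · simpa using hH₀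
      · simpa using hH' i
    · intro j
      refine Fin.cases ?_ (fun i => ?_) j
      · simpa using hYH₀
      · simpa using hYH' i
    · rintro x ⟨hxX, hxH⟩
      have hxH₀ : x ∈ H₀ := by
        have := Set.mem_iInter.mp hxH 0
        simpa using this
      rcases hsub ⟨hxX, hxH₀⟩ with h | h
      · exact h
      · refine hsub' ⟨h, Set.mem_iInter.mpr (fun i => ?_)⟩
        have := Set.mem_iInter.mp hxH i.succ
        simpa using this

end Groth.Agent.Helper16.HypCover
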