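import Mathlib

set_option autoImplicit false

namespace Groth.Agent.Helper16.ConstrDimOne

open TopologicalSpace Topology

variable {X : Type*} [TopologicalSpace X]

/-- In a T0 space of dimension ≤ 1, a proper irreducible closed subset is a (closed) point. -/
lemma irreducible_closed_eq_singleton [T0Space X] [IrreducibleSpace X]
    (hX : topologicalKrullDim X ≤ 1)
    (Z : Set X) (hZi : IsIrreducible Z) (hZc : IsClosed Z) (hZ : Z ≠ Set.univ) :
    ∃ z, Z = {z} := by
  have hdim := Order.krullDim_le_one_iff.mp hX
  let z : IrreducibleCloseds X := ⟨Z, hZi, hZc⟩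
  let top : IrreducibleCloseds X := ⟨Set.univ, IrreducibleSpace.isIrreducible_univ X, isClosed_univ⟩
  have hnotmax : ¬ IsMax z := by
    intro hmax
    have hle : z ≤ top := fun x _ => Set.mem_univ x
    have := hmax hle
    apply hZ
    exact Set.eq_univ_of_univ_subset this
  have hmin : IsMin z := (hdim z).resolve_right hnotmax
  have hgen : ∀ y ∈ Z, closure {y} = Z := by
    intro y hy
    let w : IrreducibleCloseds X := ⟨closure {y}, isIrreducible_singleton.closure, isClosed_closure⟩
    have hle : w ≤ z := (hZc.closure_subset_iff.mpr (Set.singleton_subset_iff.mpr hy))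
    have := hmin hle
    exact Set.Subset.antisymm hle this
  obtain ⟨y, hy⟩ := hZi.nonempty
  refine ⟨y, Set.Subset.antisymm ?_ (Set.singleton_subset_iff.mpr hy)⟩
  intro y' hy'
  rw [Set.mem_singleton_iff]
  have h1 : closure ({y'} : Set X) = closure {y} := by rw [hgen y hy, hgen y' hy']
  have : Inseparable y' y := by
    rw [inseparable_iff_closure_eq]; exact h1
  exact this.eq

/-- A proper closed subset is a finite set of closed points. -/
lemma closed_finite [T0Space X] [IrreducibleSpace X] [NoetherianSpace X]
    (hX : topologicalKrullDim X ≤ 1) (Z : Set X) (hZc : IsClosed Z) (hZ : Z ≠ Set.univ) :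
    Z.Finite ∧ ∀ x ∈ Z, IsClosed ({x} : Set X) := by
  obtain ⟨S, hSf, hSc, hSi, rfl⟩ := NoetherianSpace.exists_finite_set_isClosed_irreducible hZc
  have hS : ∀ t ∈ S, ∃ z, t = {z} := by
    intro t ht
    apply irreducible_closed_eq_singleton hX t (hSi t ht) (hSc t ht)
    intro htu
    apply hZ
    apply Set.eq_univ_of_univ_subset
    rw [← htu]
    exact Set.subset_sUnion_of_mem ht
  constructor
  · apply Set.Finite.sUnion hSf
    intro t ht
    obtain ⟨z, rfl⟩ := hS t ht
    exact Set.finite_singleton z
  · rintro x ⟨t, ht, hxt⟩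
    obtain ⟨z, rfl⟩ := hS t ht
    rw [Set.mem_singleton_iff] at hxt
    rw [hxt]
    exact hSc _ ht

theorem constructible_dichotomy [T0Space X] [IrreducibleSpace X] [NoetherianSpace X]
    (hX : topologicalKrullDim X ≤ 1) (s : Set X) (hs : IsConstructible s) :
    (s.Finite ∧ (∀ x ∈ s, IsClosed ({x} : Set X))) ∨
      (sᶜ.Finite ∧ ∀ x ∈ sᶜ, IsClosed ({x} : Set X)) := by
  induction hs using IsConstructible.empty_union_induction with
  | open_retrocompact U hU _ =>
    by_cases hUe : U = ∅
    · left; subst hUe; simp
    · right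
      apply closed_finite hX Uᶜ hU.isClosed_compl
      intro h
      apply hUe
      rw [← compl_compl U, h, Set.compl_univ]
  | union s _ t _ hs ht =>
    rcases hs with ⟨hs1, hs2⟩ | ⟨hs1, hs2⟩
    · rcases ht with ⟨ht1, ht2⟩ | ⟨ht1, ht2⟩
      · left
        refine ⟨hs1.union ht1, ?_⟩
        rintro x (hx | hx)
        · exact hs2 x hx
        · exact ht2 x hx
      · right
        rw [Set.compl_union]
        exact ⟨ht1.subset Set.inter_subset_right, fun x hx => ht2 x hx.2⟩
    · right
      rw [Set.compl_union]
      exact ⟨hs1.subset Set.inter_subset_left, fun x hx => hs2 x hx.1⟩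
  | compl s _ hs =>
    rcases hs with h | h
    · right; rw [compl_compl]; exact h
    · left; exact h

end Groth.Agent.Helper16.ConstrDimOne
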